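import Cfsg.Agent.H176.Pi.Fun

/-!
# S4324: the function of a cyclic Sylow subgroup, with its norm (helper176; the proof is helper208's `exists_fun`)

* `exists_vir` : `f = Ind (1 - μ)`, `(f, f) = e + 1`;
* `fun_of_cyc` : induction from a parabolic subgroup `P = V L` with two relevant double cosets.
-/

set_option autoImplicit false

namespace Cfsg.Agent.H176.Pi

open Subgroup Cfsg Cfsg.Agent Cfsg.Agent.Characters.Core Cfsg.Agent.H208.Pi
open scoped ComplexConjugate

universe u v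

theorem exists_vir {G : Type u} [Group G] [Fintype G] {s : ℕ} (hs : s.Prime)
    (hcyc : ∀ P : Sylow s G, IsCyclic (P : Subgroup G)) {y : G} (hy : orderOf y = s) :
    ∃ f : G → ℂ, Vir G f ∧ classInner f 1 = 1 ∧
      classInner f f = (Nat.card {z : G // z ∈ zpowers y ∧ IsConj y z} : ℂ) + 1 ∧
      ∀ g : G, ¬ s ∣ orderOf g → f g = 0 := by
  classical
  have hsf := Fact.mk hs
  have := Characters.Core.finite_irr (G := G)
  have : Fintype (IrrCharacter G) := Fintype.ofFinite _
  set H := centralizer ({y} : Set G) with hH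
  have : Fintype H := Fintype.ofFinite _
  have hyH : y ∈ H := mem_centralizer_comm.2 (Commute.refl y)
  -- the linear character
  have hcycH : ∀ P : Sylow s H, IsCyclic (P : Subgroup H) := by
    intro P
    obtain ⟨Q, hQ⟩ := (P.2.map H.subtype).exists_le_sylow
    have := hcyc Q
    have h1 : IsCyclic ((P : Subgroup H).map H.subtype) := isCyclic_of_injective
      (Subgroup.inclusion hQ) (Subgroup.inclusion_injective hQ)
    have e := (P : Subgroup H).equivMapOfInjective H.subtype H.subtype_injective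
    exact isCyclic_of_injective e.toMonoidHom e.injective
  obtain ⟨μ, hμy, hμ⟩ := exists_hom (C := H) hcycH (y := ⟨y, hyH⟩)
    (by rw [Subgroup.orderOf_mk, hy])
    (fun g => Subtype.ext (mem_centralizer_comm.1 g.2).eq)
  set m : H → ℂ := fun c => 1 - (μ c : ℂ) with hm
  have hm0 : ∀ c : H, ¬ s ∣ orderOf (c : G) → m c = 0 := by
    intro c hc
    rw [hm]
    simp only []
    rw [hμ c (by rwa [← Subgroup.orderOf_coe]), Units.val_one, sub_self]
  set f : G → ℂ := indFun H m with hf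
  have hfcl : IsClassFunction G f := CharactersDeep.IndFun.isClassFunction_indFun H m
  -- vanishing
  have hvan : ∀ g : G, ¬ s ∣ orderOf g → f g = 0 := by
    intro g hg
    rw [hf, CharactersDeep.IndFun.indFun_def]
    rw [Finset.sum_eq_zero, mul_zero]
    intro x _
    have h1 : orderOf (x⁻¹ * g * x) = orderOf g := by
      have := MulEquiv.orderOf_eq (MulAut.conj x⁻¹) g
      simpa using this
    by_cases hx : x⁻¹ * g * x ∈ H
    · rw [CharactersDeep.IndFun.extendByZero_mem _ _ hx, hm0]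
      change ¬ s ∣ orderOf (x⁻¹ * g * x)
      rwa [h1]
    · rw [CharactersDeep.IndFun.extendByZero_notMem _ _ hx]
  -- the set of normalising elements
  have hN : ∀ (x : G) (c : H) (hc : x⁻¹ * c * x ∈ H), m ⟨x⁻¹ * c * x, hc⟩ ≠ 0 →
      x⁻¹ * y * x ∈ zpowers y := by
    intro x c hc hne
    have h1 : s ∣ orderOf (x⁻¹ * (c : G) * x) := by
      by_contra h
      exact hne (hm0 _ h)
    have h2 : orderOf (x⁻¹ * (c : G) * x) = orderOf (c : G) := by
      have := MulEquiv.orderOf_eq (MulAut.conj x⁻¹) (c : G)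
      simpa using this
    have h3 := zpowers_eq_of_dvd hcyc hy h1 (mem_centralizer_comm.1 hc)
    rw [h2] at h1 h3
    have h4 := zpowers_eq_of_dvd hcyc hy h1 (mem_centralizer_comm.1 c.2)
    have h5 : y ∈ zpowers ((c : G) ^ (orderOf (c : G) / s)) := by
      rw [← h4]; exact mem_zpowers y
    obtain ⟨k, hk⟩ := h5
    have hk' : ((c : G) ^ (orderOf (c : G) / s)) ^ k = y := hk
    rw [h3]
    refine ⟨k, ?_⟩
    change ((x⁻¹ * (c : G) * x) ^ (orderOf (c : G) / s)) ^ k = x⁻¹ * y * x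
    rw [← hk']
    have h6 : (x⁻¹ * (c : G) * x) ^ (orderOf (c : G) / s) =
        x⁻¹ * ((c : G) ^ (orderOf (c : G) / s)) * x := by
      have := conj_pow (a := x⁻¹) (b := (c : G)) (i := orderOf (c : G) / s)
      simpa using this
    have h7 : (x⁻¹ * ((c : G) ^ (orderOf (c : G) / s)) * x) ^ k =
        x⁻¹ * (((c : G) ^ (orderOf (c : G) / s)) ^ k) * x := by
      have := conj_zpow (a := x⁻¹) (b := (c : G) ^ (orderOf (c : G) / s)) (i := k)
      simpa using this
    rw [h6, h7]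
  set X : Finset G := Finset.univ.filter fun x => x⁻¹ * y * x ∈ zpowers y with hX
  set e : ℕ := Nat.card {z : G // z ∈ zpowers y ∧ IsConj y z} with he
  have hXcard : X.card = e * Nat.card H := by
    have hr : ∀ z : {z : G // z ∈ zpowers y ∧ IsConj y z}, ∃ r : G, r⁻¹ * y * r = z := by
      intro z
      obtain ⟨c, hc⟩ := isConj_iff.1 z.2.2
      exact ⟨c⁻¹, by rw [inv_inv]; exact hc⟩
    choose r hr using hr
    have h1 : X.card = Nat.card {x : G // x⁻¹ * y * x ∈ zpowers y} := by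
      rw [hX, Nat.card_eq_fintype_card, Fintype.card_subtype]
    rw [h1, he, ← Nat.card_prod]
    refine Nat.card_congr
      { toFun := fun x => (⟨(x : G)⁻¹ * y * x, x.2, isConj_iff.2 ⟨(x : G)⁻¹, by simp⟩⟩,
          ⟨(x : G) * (r ⟨(x : G)⁻¹ * y * x, x.2, isConj_iff.2 ⟨(x : G)⁻¹, by simp⟩⟩)⁻¹, ?_⟩)
        invFun := fun p => ⟨(p.2 : G) * r p.1, ?_⟩
        left_inv := ?_
        right_inv := ?_ }
    · rw [mem_centralizer_comm]
      have h2 := hr ⟨(x : G)⁻¹ * y * x, x.2, isConj_iff.2 ⟨(x : G)⁻¹, by simp⟩⟩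
      set t := r ⟨(x : G)⁻¹ * y * x, x.2, isConj_iff.2 ⟨(x : G)⁻¹, by simp⟩⟩
      simp only [] at h2
      change (x : G) * t⁻¹ * y = y * ((x : G) * t⁻¹)
      calc (x : G) * t⁻¹ * y = (x : G) * (t⁻¹ * y * t) * t⁻¹ := by group
        _ = (x : G) * ((x : G)⁻¹ * y * x) * t⁻¹ := by rw [h2]
        _ = _ := by group
    · have h2 := hr p.1
      have h3 := (mem_centralizer_comm.1 p.2.2).eq
      have h4 : ((p.2 : G) * r p.1)⁻¹ * y * ((p.2 : G) * r p.1) = (p.1 : G) := by
        rw [← h2]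
        calc ((p.2 : G) * r p.1)⁻¹ * y * ((p.2 : G) * r p.1) =
              (r p.1)⁻¹ * ((p.2 : G)⁻¹ * (y * p.2)) * r p.1 := by group
          _ = (r p.1)⁻¹ * ((p.2 : G)⁻¹ * (p.2 * y)) * r p.1 := by rw [h3]
          _ = _ := by group
      rw [h4]
      exact p.1.2.1
    · intro x
      exact Subtype.ext (by simp)
    · rintro ⟨z, c⟩
      have h2 := hr z
      have h3 := (mem_centralizer_comm.1 c.2).eq
      have h4 : ((c : G) * r z)⁻¹ * y * ((c : G) * r z) = (z : G) := by
        rw [← h2]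
        calc ((c : G) * r z)⁻¹ * y * ((c : G) * r z) =
              (r z)⁻¹ * ((c : G)⁻¹ * (y * c)) * r z := by group
          _ = (r z)⁻¹ * ((c : G)⁻¹ * (c * y)) * r z := by rw [h3]
          _ = _ := by group
      have h5 : (⟨((c : G) * r z)⁻¹ * y * ((c : G) * r z), by rw [h4]; exact z.2.1,
          isConj_iff.2 ⟨((c : G) * r z)⁻¹, by simp⟩⟩ :
          {z : G // z ∈ zpowers y ∧ IsConj y z}) = z := Subtype.ext h4
      refine Prod.ext h5 (Subtype.ext ?_)
      simp only [h5]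
      group
  -- the norm
  have hHc : (Nat.card H : ℂ) ≠ 0 := Nat.cast_ne_zero.2 Nat.card_pos.ne'
  have hinner : ∀ x : G, ∑ c : H, m c * conj (extendByZero H m (x⁻¹ * c * x)) =
      (if x ∈ X then (Nat.card H : ℂ) else 0) + (if x ∈ H then (Nat.card H : ℂ) else 0) := by
    intro x
    by_cases hx : x ∈ X
    · have hx' : x⁻¹ * y * x ∈ zpowers y := (Finset.mem_filter.1 hx).2
      have h1 : ∀ c : H, m c * conj (extendByZero H m (x⁻¹ * c * x)) =
          1 - (μ c : ℂ) * conj (((1 : H →* ℂˣ) c : ℂˣ) : ℂ) -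
          (((1 : H →* ℂˣ) c : ℂˣ) : ℂ) * conj (((μ.comp (conjHom hx')) c : ℂˣ) : ℂ) +
          (μ c : ℂ) * conj (((μ.comp (conjHom hx')) c : ℂˣ) : ℂ) := by
        intro c
        rw [CharactersDeep.IndFun.extendByZero_mem _ _ (conj_mem_centralizer hx' c.2)]
        change (1 - (μ c : ℂ)) * conj (1 - (μ (conjHom hx' c) : ℂ)) = _
        rw [map_sub, map_one, MonoidHom.one_apply, Units.val_one, map_one, MonoidHom.comp_apply]
        ring
      rw [Finset.sum_congr rfl fun c _ => h1 c, Finset.sum_add_distrib, Finset.sum_sub_distrib,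
        Finset.sum_sub_distrib, sum_hom, sum_hom, sum_hom, if_pos hx]
      have h2 : μ ≠ 1 := fun h => hμy (by rw [h]; rfl)
      have h3 : (1 : H →* ℂˣ) ≠ μ.comp (conjHom hx') := by
        intro h
        obtain ⟨k, hk⟩ := id hx'
        have h4 : (μ (conjHom hx' ⟨y, hyH⟩)) = 1 := by
          have := DFunLike.congr_fun h (⟨y, hyH⟩ : H)
          exact this.symm
        have h5 : conjHom hx' ⟨y, hyH⟩ = (⟨y, hyH⟩ : H) ^ k := Subtype.ext (by
          rw [Subgroup.coe_zpow]
          exact hk.symm)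
        rw [h5, map_zpow] at h4
        have h6 : orderOf (μ ⟨y, hyH⟩) ∣ s := by
          have := orderOf_map_dvd μ (⟨y, hyH⟩ : H)
          rwa [Subgroup.orderOf_mk, hy] at this
        have h7 : orderOf (μ ⟨y, hyH⟩) = s :=
          ((Nat.dvd_prime hs).1 h6).resolve_left fun h => hμy (orderOf_eq_one_iff.1 h)
        have h8 : (s : ℤ) ∣ k := by
          rw [← h7]; exact orderOf_dvd_iff_zpow_eq_one.2 h4
        have h9 : y ^ k = 1 := by
          rw [← hy] at h8
          exact orderOf_dvd_iff_zpow_eq_one.1 h8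
        have h10 : x⁻¹ * y * x = 1 := by
          have hk' : y ^ k = x⁻¹ * y * x := hk
          rw [← hk', h9]
        have h11 : y = 1 := by
          have : y = x * (x⁻¹ * y * x) * x⁻¹ := by group
          rw [this, h10]; group
        rw [h11, orderOf_one] at hy
        exact hs.one_lt.ne hy
      have h4 : (μ = μ.comp (conjHom hx')) ↔ x ∈ H := by
        constructor
        · intro h
          rw [mem_centralizer_comm]
          obtain ⟨k, hk⟩ := id hx'
          have hk' : y ^ k = x⁻¹ * y * x := hk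
          have h5 : μ ⟨y, hyH⟩ = μ (conjHom hx' ⟨y, hyH⟩) := DFunLike.congr_fun h (⟨y, hyH⟩ : H)
          have h6 : conjHom hx' ⟨y, hyH⟩ = (⟨y, hyH⟩ : H) ^ k := Subtype.ext (by
            rw [Subgroup.coe_zpow]
            exact hk.symm)
          rw [h6, map_zpow] at h5
          have h7 : (μ ⟨y, hyH⟩) ^ (k - 1) = 1 := by
            rw [zpow_sub, zpow_one, ← h5, mul_inv_cancel]
          have h8 : orderOf (μ ⟨y, hyH⟩) ∣ s := by
            have := orderOf_map_dvd μ (⟨y, hyH⟩ : H)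
            rwa [Subgroup.orderOf_mk, hy] at this
          have h9 : orderOf (μ ⟨y, hyH⟩) = s :=
            ((Nat.dvd_prime hs).1 h8).resolve_left fun h => hμy (orderOf_eq_one_iff.1 h)
          have h10 : (s : ℤ) ∣ k - 1 := by
            rw [← h9]; exact orderOf_dvd_iff_zpow_eq_one.2 h7
          have h11 : y ^ (k - 1) = 1 := by
            rw [← hy] at h10
            exact orderOf_dvd_iff_zpow_eq_one.1 h10
          have h12 : y ^ k = y := by
            have : y ^ k = y ^ (k - 1) * y := by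
              rw [← zpow_add_one, sub_add_cancel]
            rw [this, h11, one_mul]
          rw [h12] at hk'
          change x * y = y * x
          calc x * y = x * (x⁻¹ * y * x) := by rw [← hk']
            _ = y * x := by group
        · intro h
          ext c
          have h5 : conjHom hx' c = (⟨x, h⟩ : H)⁻¹ * c * ⟨x, h⟩ := Subtype.ext (by
            simp only [Subgroup.coe_mul, Subgroup.coe_inv]
            rfl)
          rw [MonoidHom.comp_apply, h5, map_mul, map_mul, map_inv, mul_comm (μ ⟨x, h⟩)⁻¹,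
            inv_mul_cancel_right]
      rw [if_neg h2, if_neg h3, sub_zero, sub_zero, Finset.sum_const, Finset.card_univ,
        nsmul_eq_mul, mul_one, ← Nat.card_eq_fintype_card]
      by_cases hxH : x ∈ H
      · rw [if_pos (h4.2 hxH), if_pos hxH]
      · rw [if_neg fun h => hxH (h4.1 h), if_neg hxH]
    · have hxH : x ∉ H := by
        intro h
        apply hx
        rw [hX, Finset.mem_filter]
        refine ⟨Finset.mem_univ _, ?_⟩
        have h1 := (mem_centralizer_comm.1 h).eq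
        rw [mul_assoc, ← h1, inv_mul_cancel_left]
        exact mem_zpowers y
      rw [if_neg hx, if_neg hxH, add_zero]
      refine Finset.sum_eq_zero fun c _ => ?_
      by_cases hc : x⁻¹ * (c : G) * x ∈ H
      · rw [CharactersDeep.IndFun.extendByZero_mem _ _ hc]
        by_cases h0 : m ⟨x⁻¹ * (c : G) * x, hc⟩ = 0
        · rw [h0, map_zero, mul_zero]
        · exfalso
          apply hx
          rw [hX, Finset.mem_filter]
          exact ⟨Finset.mem_univ _, hN x c hc h0⟩
      · rw [CharactersDeep.IndFun.extendByZero_notMem _ _ hc, map_zero, mul_zero]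
  have hnorm : classInner f f = (e : ℂ) + 1 := by
    conv_lhs => rw [hf]
    rw [CharactersDeep.IndFun.classInner_indFun H m _ hfcl]
    unfold classInner
    have h1 : ∀ c : H, m c * conj (f c) =
        (Nat.card H : ℂ)⁻¹ * ∑ x : G, m c * conj (extendByZero H m (x⁻¹ * c * x)) := by
      intro c
      rw [hf, CharactersDeep.IndFun.indFun_def, map_mul, map_inv₀, map_sum, Complex.conj_natCast,
        mul_left_comm, Finset.mul_sum]
    have h2 : ∑ c : H, m c * conj (f c) =
        (Nat.card H : ℂ)⁻¹ * ∑ x : G, ∑ c : H, m c * conj (extendByZero H m (x⁻¹ * c * x)) := by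
      rw [Finset.sum_congr rfl fun c _ => h1 c, ← Finset.mul_sum, Finset.sum_comm]
    rw [h2, Finset.sum_congr rfl fun x _ => hinner x, Finset.sum_add_distrib]
    have h3 : ∑ x : G, (if x ∈ X then (Nat.card H : ℂ) else 0) =
        (e : ℂ) * Nat.card H * Nat.card H := by
      rw [← Finset.sum_filter, Finset.sum_const, nsmul_eq_mul, Finset.filter_mem_eq_inter,
        Finset.univ_inter, hXcard]
      push_cast
      ring
    have h4 : ∑ x : G, (if x ∈ H then (Nat.card H : ℂ) else 0) = (Nat.card H : ℂ) * Nat.card H := by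
      rw [← Finset.sum_filter, Finset.sum_const, nsmul_eq_mul]
      congr 2
      rw [Nat.card_eq_fintype_card, Fintype.card_subtype]
    rw [h3, h4]
    field_simp
  have hP : ∀ ξ : H →* ℂˣ, IsCharacter H (fun x => (ξ x : ℂ)) := fun ξ => Characters.Linear.isCharacter_hom ξ
  have hm1 : m = (1 : H → ℂ) - fun c => (μ c : ℂ) := by
    funext c
    rfl
  refine ⟨f, ?_, ?_, hnorm, hvan⟩
  · rw [hf, hm1]
    exact Vir.indFun ⟨_, _, isCharacter_one, hP μ, rfl⟩
  · rw [hf, CharactersDeep.IndFun.classInner_indFun H m _ (isIrr_isClassFunction isIrr_one), hm1,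
      classInner_sub_left]
    have h2 : (fun h : H => (1 : G → ℂ) h) = (1 : H → ℂ) := rfl
    rw [h2, classInner_irr_self isIrr_one,
      classInner_irr_ne (Characters.Linear.isIrrCharacter_hom μ) isIrr_one, sub_zero]
    intro h
    apply hμy
    have := congrFun h (⟨y, hyH⟩ : H)
    exact Units.ext this

/-! ### Two double cosets -/

theorem Vir.exists_norm {G : Type u} [Group G] [Fintype G] {f : G → ℂ} (hf : Vir G f) :
    ∃ n : ℕ, classInner f f = n := by
  classical
  have := Characters.Core.finite_irr (G := G)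
  have : Fintype (IrrCharacter G) := Fintype.ofFinite _
  have hfcl := hf.isClassFunction
  have hint : ∀ χ : IrrCharacter G, ∃ n : ℤ, classInner f (χ : G → ℂ) = n := by
    intro χ
    obtain ⟨α, β, ha, hb, rfl⟩ := hf
    rw [classInner_sub_left]
    obtain ⟨n1, hn1⟩ := classInner_isNat ha (isIrr_isCharacter χ.2)
    obtain ⟨n2, hn2⟩ := classInner_isNat hb (isIrr_isCharacter χ.2)
    refine ⟨(n1 : ℤ) - n2, ?_⟩
    rw [hn1, hn2]
    push_cast
    ring
  choose c hc using hint
  refine ⟨∑ χ : IrrCharacter G, (c χ).natAbs ^ 2, ?_⟩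
  rw [classInner_eq_sum hfcl hfcl]
  push_cast
  refine Finset.sum_congr rfl fun χ _ => ?_
  rw [hc χ, map_intCast]
  have h1 : (((c χ).natAbs : ℤ) ^ 2 : ℤ) = c χ * c χ := by
    rw [Int.natAbs_sq, sq]
  have h2 : ((((c χ).natAbs : ℤ) ^ 2 : ℤ) : ℂ) = ((c χ * c χ : ℤ) : ℂ) := by rw [h1]
  push_cast at h2
  rw [Nat.cast_natAbs]
  exact h2.symm

/-- `P = V ⋊ L` inside `K` -/
structure Compl {K : Type u} [Group K] (P V L : Subgroup K) : Prop where
  hV : V ≤ P
  hL : L ≤ P
  hn : ∀ g ∈ P, ∀ v ∈ V, g * v * g⁻¹ ∈ V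
  hLV : ∀ g ∈ P, ∃ l ∈ L, l⁻¹ * g ∈ V
  hd : ∀ g ∈ L, g ∈ V → g = 1

namespace Compl

variable {K : Type u} [Group K] {P V L : Subgroup K} (h : Compl P V L)
include h

theorem uniq {g l l' : K} (hl : l ∈ L) (hl' : l' ∈ L) (h1 : l⁻¹ * g ∈ V) (h2 : l'⁻¹ * g ∈ V) : l = l' := by
  have h3 := h.hd (l⁻¹ * l') (L.mul_mem (L.inv_mem hl) hl') (by
    have h4 : l⁻¹ * l' = (l⁻¹ * g) * (l'⁻¹ * g)⁻¹ := by group
    rw [h4]
    exact V.mul_mem h1 (V.inv_mem h2))
  exact inv_mul_eq_one.1 h3

/-- the projection onto `L` -/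
noncomputable def pr : P →* L where
  toFun g := ⟨(h.hLV g g.2).choose, (h.hLV g g.2).choose_spec.1⟩
  map_one' := Subtype.ext (h.uniq (g := 1) (h.hLV _ (P.one_mem)).choose_spec.1 L.one_mem
    (h.hLV _ (P.one_mem)).choose_spec.2 (by simp))
  map_mul' a b := Subtype.ext (by
    refine h.uniq (g := a * b) (h.hLV _ (P.mul_mem a.2 b.2)).choose_spec.1
      (L.mul_mem (h.hLV a a.2).choose_spec.1 (h.hLV b b.2).choose_spec.1)
      (h.hLV _ (P.mul_mem a.2 b.2)).choose_spec.2 ?_
    set c := (h.hLV a a.2).choose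
    set d := (h.hLV b b.2).choose
    have h1 : c⁻¹ * (a : K) ∈ V := (h.hLV a a.2).choose_spec.2
    have h2 : d⁻¹ * (b : K) ∈ V := (h.hLV b b.2).choose_spec.2
    have hd : d ∈ L := (h.hLV b b.2).choose_spec.1
    have e : (c * d)⁻¹ * (a * b) = (d⁻¹ * (c⁻¹ * a) * d⁻¹⁻¹) * (d⁻¹ * b) := by group
    change (c * d)⁻¹ * ((a : K) * b) ∈ V
    rw [e]
    exact V.mul_mem (h.hn _ (P.inv_mem (h.hL hd)) _ h1) h2)

theorem pr_spec (g : P) : ((h.pr g : L) : K)⁻¹ * g ∈ V := (h.hLV g g.2).choose_spec.2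

theorem pr_eq {g : P} {l : K} (hl : l ∈ L) (h1 : l⁻¹ * g ∈ V) : (h.pr g : K) = l :=
  h.uniq (h.pr g).2 hl (h.pr_spec g) h1

theorem pr_coe (l : L) : h.pr ⟨l, h.hL l.2⟩ = l :=
  Subtype.ext (h.pr_eq l.2 (by simp))

theorem pr_surjective : Function.Surjective h.pr := fun l => ⟨_, h.pr_coe l⟩

theorem sum_pr [Fintype P] [Fintype L] (F : L → ℂ) : ∑ g : P, F (h.pr g) = (Nat.card V : ℂ) * ∑ l : L, F l := by
  classical
  have hVf : Finite V := Finite.of_injective (Subgroup.inclusion h.hV) (Subgroup.inclusion_injective _)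
  have : Fintype V := Fintype.ofFinite V
  let e : P ≃ L × V :=
    { toFun := fun g => (h.pr g, ⟨_, h.pr_spec g⟩)
      invFun := fun x => ⟨x.1 * x.2, P.mul_mem (h.hL x.1.2) (h.hV x.2.2)⟩
      left_inv := fun g => Subtype.ext (by simp)
      right_inv := fun x => by
        have h1 : h.pr ⟨x.1 * x.2, P.mul_mem (h.hL x.1.2) (h.hV x.2.2)⟩ = x.1 :=
          Subtype.ext (h.pr_eq x.1.2 (by simp))
        refine Prod.ext h1 (Subtype.ext ?_)
        simp only [h1]
        group }
  rw [← e.symm.sum_comp, Fintype.sum_prod_type]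
  have h1 : ∀ (l : L) (v : V), F (h.pr (e.symm (l, v))) = F l := by
    intro l v
    have h2 : e (e.symm (l, v)) = (l, v) := e.apply_symm_apply _
    have h3 : h.pr (e.symm (l, v)) = l := congrArg Prod.fst h2
    rw [h3]
  rw [Finset.mul_sum]
  refine Finset.sum_congr rfl fun l _ => ?_
  rw [Finset.sum_congr rfl fun v _ => h1 l v, Finset.sum_const, nsmul_eq_mul, Finset.card_univ,
    Nat.card_eq_fintype_card]

end Compl

theorem classInner_pr {K : Type u} [Group K] {P V L : Subgroup K} (h : Compl P V L) [Fintype P] [Fintype L]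
    [Finite V] (φ ψ : L → ℂ) : classInner (φ ∘ h.pr) (ψ ∘ h.pr) = classInner φ ψ := by
  have h1 : (Nat.card V : ℂ) ≠ 0 := by exact_mod_cast Nat.card_pos.ne'
  have h2 := h.sum_pr (fun l => φ l * conj (ψ l))
  have h3 := h.sum_pr (fun _ => 1)
  rw [Finset.sum_const, Finset.sum_const, nsmul_eq_mul, nsmul_eq_mul, mul_one, mul_one, Finset.card_univ,
    Finset.card_univ, ← Nat.card_eq_fintype_card, ← Nat.card_eq_fintype_card] at h3
  have hL : (Nat.card L : ℂ) ≠ 0 := by exact_mod_cast Nat.card_pos.ne'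
  rw [classInner_def, classInner_def]
  simp only [Function.comp_apply]
  rw [h2, h3]
  field_simp

theorem sum_sq {G : Type u} [Group G] [Fintype G] {f : G → ℂ} {e : ℕ} (h : classInner f f = (e : ℂ) + 1) :
    ∑ g : G, ‖f g‖ ^ 2 = (Nat.card G : ℝ) * (e + 1) := by
  rw [classInner_def] at h
  have h2 : ∀ l : G, f l * conj (f l) = ((‖f l‖ ^ 2 : ℝ) : ℂ) := by
    intro l
    rw [Complex.mul_conj, Complex.normSq_eq_norm_sq]
  rw [Finset.sum_congr rfl fun l _ => h2 l, ← Complex.ofReal_sum] at h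
  have hL : (Nat.card G : ℂ) ≠ 0 := by exact_mod_cast Nat.card_pos.ne'
  have h3 : ((∑ g : G, ‖f g‖ ^ 2 : ℝ) : ℂ) = (((Nat.card G : ℝ) * (e + 1) : ℝ) : ℂ) := by
    rw [inv_mul_eq_iff_eq_mul₀ hL] at h
    rw [h]
    push_cast
    ring
  exact_mod_cast h3

/-- Cauchy–Schwarz -/
theorem norm_sum_le {α : Type*} [Fintype α] (u v : α → ℂ) {c : ℝ} (hu : ∑ a, ‖u a‖ ^ 2 ≤ c) (hv : ∑ a, ‖v a‖ ^ 2 ≤ c) :
    ‖∑ a, u a * conj (v a)‖ ≤ c := by
  refine (_root_.norm_sum_le _ _).trans ?_
  have h1 : ∀ a, ‖u a * conj (v a)‖ ≤ (‖u a‖ ^ 2 + ‖v a‖ ^ 2) / 2 := by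
    intro a
    rw [norm_mul, RCLike.norm_conj]
    nlinarith [sq_nonneg (‖u a‖ - ‖v a‖)]
  refine (Finset.sum_le_sum fun a _ => h1 a).trans ?_
  rw [← Finset.sum_div, Finset.sum_add_distrib]
  linarith

/-- the norm of an induced class function -/
theorem classInner_indFun_self {K : Type u} [Group K] [Fintype K] (P : Subgroup K) [Fintype P] (φ : P → ℂ) :
    classInner (indFun P φ) (indFun P φ) = (Nat.card P : ℂ)⁻¹ * ((Nat.card P : ℂ)⁻¹ *
      ∑ x : K, ∑ a : P, φ a * conj (extendByZero P φ (x⁻¹ * a * x))) := by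
  classical
  rw [CharactersDeep.IndFun.classInner_indFun P φ _ (CharactersDeep.IndFun.isClassFunction_indFun P φ)]
  unfold classInner
  have h1 : ∀ c : P, φ c * conj (indFun P φ c) =
      (Nat.card P : ℂ)⁻¹ * ∑ x : K, φ c * conj (extendByZero P φ (x⁻¹ * c * x)) := by
    intro c
    rw [CharactersDeep.IndFun.indFun_def, map_mul, map_inv₀, map_sum, Complex.conj_natCast,
      mul_left_comm, Finset.mul_sum]
  have h2 : ∑ c : P, φ c * conj (indFun P φ c) =
      (Nat.card P : ℂ)⁻¹ * ∑ x : K, ∑ c : P, φ c * conj (extendByZero P φ (x⁻¹ * c * x)) := by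
    rw [Finset.sum_congr rfl fun c _ => h1 c, ← Finset.mul_sum, Finset.sum_comm]
  rw [h2]

/-- **`f = Ind_P (φ ∘ pr)`**, `P = V L` with the opposite `P ^ w`, `L = P ∩ P ^ w` with cyclic Sylow `s`-subgroups; the
other double cosets give `s'`-elements only. -/
theorem fun_of_cyc {K : Type u} [Group K] [Finite K] {s : ℕ} (hs : s.Prime) {P V L : Subgroup K} (hC : Compl P V L)
    (w : K) (hw : ∀ g ∈ P, w⁻¹ * g * w ∈ P → g ∈ L) (hw' : ∀ l ∈ L, w⁻¹ * l * w ∈ L)
    (hoth : ∀ x : K, x ∉ P → (∀ a ∈ P, ∀ b ∈ P, x ≠ a * w * b) → ∀ g ∈ P, x⁻¹ * g * x ∈ P → ¬ s ∣ orderOf g)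
    (hcyc : ∀ S : Sylow s L, IsCyclic (S : Subgroup L)) {y : L} (hy : orderOf y = s) {e : ℕ}
    (he : Nat.card {z : L // z ∈ zpowers y ∧ IsConj y z} ≤ e) : Fun (2 * e + 1) s K := by
  classical
  have : Fintype K := Fintype.ofFinite K
  have : Fintype P := Fintype.ofFinite P
  have : Fintype L := Fintype.ofFinite L
  have : Finite V := inferInstance
  obtain ⟨φL, hφV, hφ1, hφn, hφ0⟩ := exists_vir hs hcyc hy
  set φ : P → ℂ := φL ∘ hC.pr with hφ
  have hVφ : Vir P φ := hφV.comp hC.pr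
  set f : K → ℂ := indFun P φ with hf
  have hV : Vir K f := hVφ.indFun
  obtain ⟨n, hn⟩ := hV.exists_norm
  set e' := Nat.card {z : L // z ∈ zpowers y ∧ IsConj y z} with he'
  have hcl : IsClassFunction P φ := hVφ.isClassFunction
  -- squares
  have hSL : ∑ l : L, ‖φL l‖ ^ 2 = (Nat.card L : ℝ) * (e' + 1) := sum_sq hφn
  have hSP : ∑ l : P, ‖φ l‖ ^ 2 = (Nat.card P : ℝ) * (e' + 1) := by
    refine sum_sq ?_
    rw [hφ, classInner_pr hC, hφn]
  have hconj : ∀ (p : K) (hp : p ∈ P) (a : K) (ha : a ∈ P), φ ⟨p⁻¹ * a * p, P.mul_mem (P.mul_mem (P.inv_mem hp) ha) hp⟩ =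
      φ ⟨a, ha⟩ := by
    intro p hp a ha
    have := hcl ⟨a, ha⟩ ⟨p, hp⟩⁻¹
    rw [← this]
    congr 1
    exact Subtype.ext (by simp)
  have hφL : ∀ l : L, φ ⟨l, hC.hL l.2⟩ = φL l := by
    intro l
    rw [hφ, Function.comp_apply, hC.pr_coe]
  -- the terms
  set M : K → ℂ := fun x => ∑ a : P, φ a * conj (extendByZero P φ (x⁻¹ * a * x)) with hM
  have b1 : ∀ x ∈ P, ‖M x‖ ≤ (Nat.card P : ℝ) * (e' + 1) := by
    intro x hx
    refine norm_sum_le φ (fun a : P => extendByZero P φ (x⁻¹ * a * x)) hSP.le ?_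
    rw [← hSP]
    refine Finset.sum_le_sum fun a _ => le_of_eq ?_
    rw [CharactersDeep.IndFun.extendByZero_mem _ _ (P.mul_mem (P.mul_mem (P.inv_mem hx) a.2) hx), hconj x hx a a.2]
  have b2 : ∀ a₀ ∈ P, ∀ b₀ ∈ P, ‖M (a₀ * w * b₀)‖ ≤ (Nat.card L : ℝ) * (e' + 1) := by
    intro a₀ ha₀ b₀ hb₀
    set x := a₀ * w * b₀ with hx
    have key : ∀ a : P, x⁻¹ * (a : K) * x ∈ P → a₀⁻¹ * a * a₀ ∈ L := by
      intro a ha
      refine hw _ (P.mul_mem (P.mul_mem (P.inv_mem ha₀) a.2) ha₀) ?_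
      have h1 : w⁻¹ * (a₀⁻¹ * a * a₀) * w = b₀ * (x⁻¹ * a * x) * b₀⁻¹ := by
        rw [hx]; group
      rw [h1]
      exact P.mul_mem (P.mul_mem hb₀ ha) (P.inv_mem hb₀)
    let i : L → P := fun l => ⟨a₀ * l * a₀⁻¹, P.mul_mem (P.mul_mem ha₀ (hC.hL l.2)) (P.inv_mem ha₀)⟩
    have hi : Function.Injective i := by
      intro l l' h
      have h1 : a₀ * (l : K) * a₀⁻¹ = a₀ * l' * a₀⁻¹ := congrArg Subtype.val h
      exact Subtype.ext (mul_left_cancel (mul_right_cancel h1))
    let c : L → L := fun l => ⟨w⁻¹ * l * w, hw' l l.2⟩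
    have hc : Function.Injective c := by
      intro l l' h
      have h1 : w⁻¹ * (l : K) * w = w⁻¹ * l' * w := congrArg Subtype.val h
      exact Subtype.ext (mul_left_cancel (mul_right_cancel h1))
    have e1 : M x = ∑ l : L, φL l * conj (φL (c l)) := by
      symm
      refine Fintype.sum_of_injective i hi _ _ ?_ ?_
      · intro a ha
        by_cases h1 : x⁻¹ * (a : K) * x ∈ P
        · exact absurd ⟨⟨_, key a h1⟩, Subtype.ext (by show a₀ * (a₀⁻¹ * a * a₀) * a₀⁻¹ = a; group)⟩ ha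
        · rw [CharactersDeep.IndFun.extendByZero_notMem _ _ h1, map_zero, mul_zero]
      · intro l
        have h1 : x⁻¹ * (i l : K) * x = b₀⁻¹ * (c l : K) * b₀ := by
          show x⁻¹ * (a₀ * l * a₀⁻¹) * x = b₀⁻¹ * (w⁻¹ * l * w) * b₀
          rw [hx]; group
        have h2 : b₀⁻¹ * (c l : K) * b₀ ∈ P := P.mul_mem (P.mul_mem (P.inv_mem hb₀) (hC.hL (c l).2)) hb₀
        rw [h1, CharactersDeep.IndFun.extendByZero_mem _ _ h2, hconj b₀ hb₀ (c l) (hC.hL (c l).2), hφL]
        have h3 : φ (i l) = φL l := by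
          have h4 := hconj a₀⁻¹ (P.inv_mem ha₀) l (hC.hL l.2)
          rw [hφL] at h4
          rw [← h4]
          congr 1
          exact Subtype.ext (by show a₀ * l * a₀⁻¹ = a₀⁻¹⁻¹ * l * a₀⁻¹; rw [inv_inv])
        rw [h3]
    rw [e1]
    refine norm_sum_le φL (fun l => φL (c l)) hSL.le ?_
    rw [← hSL]
    refine le_of_eq ?_
    have hb : Function.Bijective c := Finite.injective_iff_bijective.1 hc
    exact (Equiv.ofBijective c hb).sum_comp (fun l => ‖φL l‖ ^ 2)
  have b3 : ∀ x, x ∉ P → (∀ a ∈ P, ∀ b ∈ P, x ≠ a * w * b) → M x = 0 := by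
    intro x hx hx'
    refine Finset.sum_eq_zero fun a _ => ?_
    by_cases h1 : x⁻¹ * (a : K) * x ∈ P
    · have h2 := hoth x hx hx' a a.2 h1
      have h3 : φ a = 0 := by
        rw [hφ, Function.comp_apply]
        refine hφ0 _ fun h4 => h2 ?_
        refine h4.trans ?_
        have h5 := orderOf_map_dvd hC.pr a
        rwa [← Subgroup.orderOf_coe a] at h5
      rw [h3, zero_mul]
    · rw [CharactersDeep.IndFun.extendByZero_notMem _ _ h1, map_zero, mul_zero]
  -- the number of elements of `P w P`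
  set D : Finset K := Finset.univ.filter fun x => ∃ a ∈ P, ∃ b ∈ P, x = a * w * b with hD
  have hDc : (D.card : ℝ) * Nat.card L ≤ (Nat.card P : ℝ) * Nat.card P := by
    have h1 : ∀ x : D, ∃ p : P × P, (x : K) = p.1 * w * p.2 := by
      intro x
      obtain ⟨a, ha, b, hb, h⟩ := (Finset.mem_filter.1 x.2).2
      exact ⟨(⟨a, ha⟩, ⟨b, hb⟩), h⟩
    choose r hr using h1
    let F : D × L → P × P := fun z => ((r z.1).1 * ⟨z.2, hC.hL z.2.2⟩,
      ⟨w⁻¹ * (z.2 : K)⁻¹ * w, hC.hL (hw' _ (L.inv_mem z.2.2))⟩ * (r z.1).2)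
    have hF : Function.Injective F := by
      rintro ⟨x, l⟩ ⟨x', l'⟩ h
      have h1 : ((r x).1 : K) * l = (r x').1 * l' := congrArg (fun z : P × P => (z.1 : K)) h
      have h2 : (w⁻¹ * (l : K)⁻¹ * w) * (r x).2 = (w⁻¹ * (l' : K)⁻¹ * w) * (r x').2 :=
        congrArg (fun z : P × P => (z.2 : K)) h
      have h3 : (x : K) = x' := by
        rw [hr x, hr x']
        calc ((r x).1 : K) * w * (r x).2 = ((r x).1 * l) * w * ((w⁻¹ * (l : K)⁻¹ * w) * (r x).2) := by group
          _ = ((r x').1 * l') * w * ((w⁻¹ * (l' : K)⁻¹ * w) * (r x').2) := by rw [h1, h2]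
          _ = _ := by group
      have h4 : x = x' := Subtype.ext h3
      subst h4
      rw [mul_right_inj] at h1
      rw [Subtype.ext h1]
    have h2 := Nat.card_le_card_of_injective F hF
    rw [Nat.card_prod, Nat.card_prod, Nat.card_eq_fintype_card (α := D), Fintype.card_coe] at h2
    exact_mod_cast h2
  have htot : ‖∑ x : K, M x‖ ≤ 2 * ((Nat.card P : ℝ) * Nat.card P) * (e' + 1) := by
    refine (_root_.norm_sum_le _ _).trans ?_
    have h1 : ∀ x : K, ‖M x‖ ≤ (if x ∈ P then (Nat.card P : ℝ) * (e' + 1) else 0) +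
        (if x ∈ D then (Nat.card L : ℝ) * (e' + 1) else 0) := by
      intro x
      have h0 : (0 : ℝ) ≤ (Nat.card L : ℝ) * (e' + 1) := by positivity
      have h0' : (0 : ℝ) ≤ (Nat.card P : ℝ) * (e' + 1) := by positivity
      by_cases hx : x ∈ P
      · rw [if_pos hx]
        have := b1 x hx
        split_ifs <;> linarith
      · rw [if_neg hx, zero_add]
        by_cases hx' : x ∈ D
        · rw [if_pos hx']
          obtain ⟨a, ha, b, hb, rfl⟩ := (Finset.mem_filter.1 hx').2
          exact b2 a ha b hb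
        · rw [if_neg hx', b3 x hx (fun a ha b hb h => hx' (Finset.mem_filter.2 ⟨Finset.mem_univ _, a, ha, b, hb, h⟩)),
            norm_zero]
    refine (Finset.sum_le_sum fun x _ => h1 x).trans ?_
    rw [Finset.sum_add_distrib, ← Finset.sum_filter, ← Finset.sum_filter, Finset.sum_const, Finset.sum_const,
      Finset.filter_mem_eq_inter, Finset.univ_inter, nsmul_eq_mul, nsmul_eq_mul]
    have h2 : ((Finset.univ.filter fun x => x ∈ P).card : ℝ) = Nat.card P := by
      rw [Nat.card_eq_fintype_card, Fintype.card_subtype]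
    rw [h2]
    have h3 : (0 : ℝ) ≤ (e' + 1 : ℝ) := by positivity
    nlinarith [mul_le_mul_of_nonneg_right hDc h3]
  have hPr : (0 : ℝ) < Nat.card P := by exact_mod_cast Nat.card_pos
  have hle : n ≤ 2 * e' + 2 := by
    have h1 : (n : ℝ) = ‖classInner f f‖ := by rw [hn]; simp
    have h2 : ‖classInner f f‖ ≤ 2 * (e' + 1) := by
      rw [hf, classInner_indFun_self, norm_mul, norm_mul, norm_inv, Complex.norm_natCast]
      calc (Nat.card P : ℝ)⁻¹ * ((Nat.card P : ℝ)⁻¹ * ‖∑ x : K, M x‖) ≤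
          (Nat.card P : ℝ)⁻¹ * ((Nat.card P : ℝ)⁻¹ * (2 * ((Nat.card P : ℝ) * Nat.card P) * (e' + 1))) := by
            gcongr
        _ = 2 * (e' + 1) := by
            field_simp
    rw [← h1] at h2
    have h3 : (n : ℝ) ≤ ((2 * e' + 2 : ℕ) : ℝ) := by push_cast; linarith
    exact_mod_cast h3
  refine Fun.of_vir hV ?_ hn (by omega) ?_
  · rw [hf, CharactersDeep.IndFun.classInner_indFun P φ _ (isIrr_isClassFunction isIrr_one)]
    have h2 : (fun h : P => (1 : K → ℂ) h) = (1 : L → ℂ) ∘ hC.pr := rfl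
    rw [h2, hφ, classInner_pr hC, hφ1]
    exact one_ne_zero
  · intro g hg
    rw [hf, CharactersDeep.IndFun.indFun_def, Finset.sum_eq_zero, mul_zero]
    intro x _
    by_cases hx : x⁻¹ * g * x ∈ P
    · rw [CharactersDeep.IndFun.extendByZero_mem _ _ hx, hφ, Function.comp_apply]
      refine hφ0 _ fun h4 => hg ?_
      have h1 : orderOf (x⁻¹ * g * x) = orderOf g := by
        have := MulEquiv.orderOf_eq (MulAut.conj x⁻¹) g
        simpa using this
      rw [← h1]
      refine h4.trans ?_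
      have h5 : orderOf (⟨x⁻¹ * g * x, hx⟩ : P) = orderOf (x⁻¹ * g * x) := Subgroup.orderOf_mk _ _
      rw [← h5]
      exact orderOf_map_dvd hC.pr _
    · rw [CharactersDeep.IndFun.extendByZero_notMem _ _ hx]

end Cfsg.Agent.H176.Pi
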