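import Cfsg.Agent.H176.Pi.TwF4Fld
import Cfsg.Agent.H216.Pi.Base
import Cfsg.Agent.S2128

/-!
# S4324, `²F₄(q)`: the conjugates of a field automorphism (helper176)

* `GenF` : eight conjugates of a field automorphism generate a group containing all inner automorphisms;
* `genF`.
-/

set_option autoImplicit false

namespace Cfsg.Agent.H176.Pi.TwF4Gen

open Subgroup Cfsg Cfsg.Lie
open Cfsg.Agent.H967.CopMat (Fx mem_Fx)
open Cfsg.Agent.ChevalleyStructure.TwF4.TwistedFix (exists_rln Rln)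
open Cfsg.Agent.KFacts.TwF4 Cfsg.Agent.KFacts.TwF4.Arc Cfsg.Agent.KFacts.TwF4.Inv
open Cfsg.Agent.H216.Pi (cj InC)

section abs

universe u

variable {F : Type*} [Field F] {θ : F →+* F} {G : Type u} [Group G] (S : Full θ G)

theorem e_inv' (a : ZMod 8) (p u : F) : (S.e a p u)⁻¹ = S.e a p (u + p * θ p) := by
  rw [inv_eq_iff_mul_eq_one, S.e_mul, char2 S]
  have h : u + (u + p * θ p) + p * θ p = (u + u) + (p * θ p + p * θ p) := by ring
  rw [h, char2 S, char2 S, add_zero, S.e_zero]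

/-- the witnesses -/
def wit (γ : Fˣ) (c : F) : Fin 8 → G := ![1, S.h γ 1, S.o 0 c, S.o 4 c, S.e 0 c 0, S.e 4 c 0, 1, 1]

/-- the group generated by the conjugates -/
def D (ψ : MulAut G) (γ : Fˣ) (c : F) : Subgroup G :=
  (closure (Set.range fun i => cj ψ (wit S γ c i))).comap MulAut.conj

theorem mem_D (ψ : MulAut G) (γ : Fˣ) (c : F) (i : Fin 8) : wit S γ c i * (ψ (wit S γ c i))⁻¹ ∈ D S ψ γ c := by
  show MulAut.conj (wit S γ c i * (ψ (wit S γ c i))⁻¹) ∈ Subgroup.closure (Set.range fun i => cj ψ (wit S γ c i))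
  have h1 : MulAut.conj (wit S γ c i * (ψ (wit S γ c i))⁻¹) = cj ψ (wit S γ c i) * (cj ψ (wit S γ c 0))⁻¹ := by
    apply MulEquiv.ext
    intro g
    have h2 : cj ψ (wit S γ c 0) = ψ := by
      show cj ψ 1 = ψ
      exact H216.Pi.cj_one ψ
    rw [h2, MulAut.mul_apply, H216.Pi.cj_apply, MulAut.conj_apply, MulAut.apply_inv_self, map_inv]
  rw [h1]
  exact mul_mem (subset_closure ⟨i, rfl⟩) (inv_mem (subset_closure ⟨0, rfl⟩))

variable {S}

variable [Finite F] {m : ℕ} (hF : Nat.card F = 2 ^ (2 * m + 1)) {τ : F ≃+* F} (hτ : Nat.card ↥(Fx τ) ^ 3 ≤ Nat.card F)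
  {γ : Fˣ} (hγ : orderOf γ = Nat.card F - 1) {c : F} (hc : τ c ≠ c) {ψ : MulAut G}
  (ho : ∀ a t, ψ (S.o a t) = S.o a (τ t)) (he : ∀ a p u, ψ (S.e a p u) = S.e a (τ p) (τ u))

include ho in
/-- conjugation by the torus element -/
theorem tor_o {T : Subgroup G} {h : G} (hT : h * (ψ h)⁻¹ ∈ T) {a : ZMod 8} {χ : Fˣ}
    (hh : ∀ t, h * S.o a t * h⁻¹ = S.o a ((χ : F) * t)) {t : F} (ht : S.o a t ∈ T) :
    S.o a ((χ : F) / τ χ * t) ∈ T := by
  have h1 : ψ h * S.o a (τ (χ : F)⁻¹ * t) * (ψ h)⁻¹ = S.o a t := by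
    have h2 := congrArg ψ (hh ((χ : F)⁻¹ * τ.symm t))
    rw [map_mul, map_mul, map_inv, ho, ho, mul_inv_cancel_left₀ χ.ne_zero, map_mul, τ.apply_symm_apply] at h2
    exact h2
  have h3 : (h * (ψ h)⁻¹) * S.o a t * (h * (ψ h)⁻¹)⁻¹ = S.o a ((χ : F) / τ χ * t) := by
    rw [← h1]
    have h4 : (h * (ψ h)⁻¹) * (ψ h * S.o a (τ (χ : F)⁻¹ * t) * (ψ h)⁻¹) * (h * (ψ h)⁻¹)⁻¹ =
        h * S.o a (τ (χ : F)⁻¹ * t) * h⁻¹ := by group
    rw [h4, hh, map_inv₀, div_eq_mul_inv, mul_assoc]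
  rw [← h3]
  exact mul_mem (mul_mem hT ht) (inv_mem hT)

include he in
/-- conjugation by the torus element -/
theorem tor_e {T : Subgroup G} {h : G} (hT : h * (ψ h)⁻¹ ∈ T) {a : ZMod 8} {χ : Fˣ}
    (hh : ∀ p u, h * S.e a p u * h⁻¹ = S.e a ((χ : F) * p) ((χ : F) * θ (χ : F) * u)) {p u : F} (ht : S.e a p u ∈ T) :
    ∃ v, S.e a ((χ : F) / τ χ * p) v ∈ T := by
  have h1 : ψ h * S.e a (τ (χ : F)⁻¹ * p) (τ ((χ : F) * θ (χ : F))⁻¹ * u) * (ψ h)⁻¹ = S.e a p u := by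
    have hx : (χ : F) * θ (χ : F) ≠ 0 := mul_ne_zero χ.ne_zero (by simp)
    have h2 := congrArg ψ (hh ((χ : F)⁻¹ * τ.symm p) (((χ : F) * θ (χ : F))⁻¹ * τ.symm u))
    rw [map_mul, map_mul, map_inv, he, he, mul_inv_cancel_left₀ χ.ne_zero, mul_inv_cancel_left₀ hx, map_mul, map_mul,
      τ.apply_symm_apply, τ.apply_symm_apply] at h2
    exact h2
  have h3 : (h * (ψ h)⁻¹) * S.e a p u * (h * (ψ h)⁻¹)⁻¹ =
      S.e a ((χ : F) / τ χ * p) ((χ : F) * θ (χ : F) * (τ ((χ : F) * θ (χ : F))⁻¹ * u)) := by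
    rw [← h1]
    generalize τ ((χ : F) * θ (χ : F))⁻¹ * u = w
    have h4 : (h * (ψ h)⁻¹) * (ψ h * S.e a (τ (χ : F)⁻¹ * p) w * (ψ h)⁻¹) * (h * (ψ h)⁻¹)⁻¹ =
        h * S.e a (τ (χ : F)⁻¹ * p) w * h⁻¹ := by group
    rw [h4, hh, map_inv₀, div_eq_mul_inv, mul_assoc (χ : F) (τ (χ : F))⁻¹ p]
  exact ⟨_, h3 ▸ mul_mem (mul_mem hT ht) (inv_mem hT)⟩

include hF hτ hγ hc ho in
/-- all `o a t` -/
theorem all_o {T : Subgroup G} {h : G} (hT : h * (ψ h)⁻¹ ∈ T) {a : ZMod 8} {χ : Fˣ} (hχ : orderOf χ = orderOf γ)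
    (hh : ∀ t, h * S.o a t * h⁻¹ = S.o a ((χ : F) * t)) (hk : S.o a c * (ψ (S.o a c))⁻¹ ∈ T) (t : F) : S.o a t ∈ T := by
  let A : AddSubgroup F :=
    { carrier := {t | S.o a t ∈ T}
      add_mem' := by
        intro x y hx hy
        show S.o a (x + y) ∈ T
        rw [← S.o_add]
        exact mul_mem hx hy
      zero_mem' := by
        show S.o a 0 ∈ T
        rw [S.o_zero]
        exact one_mem T
      neg_mem' := by
        intro x hx
        show S.o a (-x) ∈ T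
        rw [neg_eq_of_add_eq_zero_left (char2 S x)]
        exact hx }
  have h1 : c + τ c ∈ A := by
    show S.o a (c + τ c) ∈ T
    rw [← S.o_add]
    rw [ho, o_inv] at hk
    exact hk
  have h2 : c + τ c ≠ 0 := by
    intro h3
    apply hc
    have h4 := char2 S c
    exact add_left_cancel (h3.trans h4.symm)
  exact TwF4Fld.add_eq_top hF hτ (hχ.trans hγ) A (fun b hb => tor_o ho hT hh hb) h1 h2 t

include hF hτ hγ hc he in
/-- all `e a p u` -/
theorem all_e {T : Subgroup G} {h : G} (hT : h * (ψ h)⁻¹ ∈ T) {a : ZMod 8} {χ : Fˣ} (hχ : orderOf χ = orderOf γ)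
    (hh : ∀ p u, h * S.e a p u * h⁻¹ = S.e a ((χ : F) * p) ((χ : F) * θ (χ : F) * u))
    (hk : S.e a c 0 * (ψ (S.e a c 0))⁻¹ ∈ T) (p u : F) : S.e a p u ∈ T := by
  let A : AddSubgroup F :=
    { carrier := {p | ∃ u, S.e a p u ∈ T}
      add_mem' := by
        rintro x y ⟨u, hx⟩ ⟨v, hy⟩
        exact ⟨_, S.e_mul a x u y v ▸ mul_mem hx hy⟩
      zero_mem' := ⟨0, by rw [S.e_zero]; exact one_mem T⟩
      neg_mem' := by
        rintro x ⟨u, hx⟩
        refine ⟨u, ?_⟩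
        rw [neg_eq_of_add_eq_zero_left (char2 S x)]
        exact hx }
  have h1 : c + τ c ∈ A := by
    rw [he, e_inv', S.e_mul] at hk
    exact ⟨_, hk⟩
  have h2 : c + τ c ≠ 0 := by
    intro h3
    apply hc
    have h4 := char2 S c
    exact add_left_cancel (h3.trans h4.symm)
  have hA : ∀ p, ∃ u, S.e a p u ∈ T := fun p =>
    TwF4Fld.add_eq_top hF hτ (hχ.trans hγ) A (fun b hb => by
      obtain ⟨u, hu⟩ := hb
      exact tor_e he hT hh hu) h1 h2 p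
  have hz : ∀ v, S.e a 0 v ∈ T := by
    intro v
    rcases eq_or_ne v 0 with rfl | hv
    · rw [S.e_zero]; exact one_mem T
    · obtain ⟨w, hw⟩ := hA (θ v / v)
      have h3 := mul_mem hw hw
      rw [S.e_mul, char2 S, char2 S, zero_add] at h3
      have hθ : θ v ≠ 0 := by simpa using hv
      have h4 : θ v / v * θ (θ v / v) = v := by
        rw [map_div₀, S.sq]
        field_simp
      rwa [h4] at h3
  obtain ⟨w, hw⟩ := hA p
  have h3 := mul_mem hw (hz (w + u))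
  rw [S.e_mul, map_zero, mul_zero, add_zero, add_zero, ← add_assoc, char2 S, zero_add] at h3
  exact h3

include hF hτ hγ hc ho he in
/-- **the conjugates of `ψ` generate a group containing the inner automorphisms** -/
theorem D_eq_top : D S ψ γ c = ⊤ := by
  have hT : S.h γ 1 * (ψ (S.h γ 1))⁻¹ ∈ D S ψ γ c := mem_D S ψ γ c 1
  apply eq_top_of S
  · intro x hx
    obtain ⟨p, u, rfl⟩ := (mem_X0 S).1 hx
    exact all_e hF hτ hγ hc he hT (χ := γ) rfl (fun p u => by rw [S.h_e, chE_zero]) (mem_D S ψ γ c 4) p u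
  · intro x hx
    obtain ⟨t, rfl⟩ := (mem_X1 S).1 hx
    refine all_o hF hτ hγ hc ho hT (χ := γ) rfl (fun t => ?_) (mem_D S ψ γ c 2) t
    rw [S.h_o]
    have h1 : chO θ 0 γ 1 = γ := by
      unfold chO
      rw [zero_add, chE_zero, chE_one, mul_one]
    rw [h1]
  · intro x hx
    obtain ⟨p, u, rfl⟩ := (mem_X8 S).1 hx
    exact all_e hF hτ hγ hc he hT (χ := γ⁻¹) (orderOf_inv γ) (fun p u => by rw [S.h_e, chE_four]) (mem_D S ψ γ c 5) p u
  · intro x hx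
    obtain ⟨t, rfl⟩ := (mem_X9 S).1 hx
    refine all_o hF hτ hγ hc ho hT (χ := γ⁻¹) (orderOf_inv γ) (fun t => ?_) (mem_D S ψ γ c 3) t
    rw [S.h_o]
    have h1 : chO θ 4 γ 1 = γ⁻¹ := by
      unfold chO
      rw [show (4 : ZMod 8) + 1 = 5 by decide, chE_four, chE_five, inv_one, mul_one]
    rw [h1]

end abs

/-- eight conjugates of a field automorphism of `²F₄(q)` generate a group containing the inner automorphisms -/
def GenF : Prop :=
  ∀ (K : Type) [Field K] [Fintype K] (m : ℕ), 1 ≤ m → (hK : Fintype.card K = 2 ^ (2 * m + 1)) → ∀ σ : K ≃+* K,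
    2 ≤ Nat.card ↥(Fx σ) → Nat.card ↥(Fx σ) ^ 3 ≤ Nat.card K → (∃ c, σ c ≠ c) → ∀ g : ↥(twistedF4 K (2 ^ m)),
    H216.Pi.InC 8 (S2128.fld σ (2 ^ m)) (MulAut.conj g)

theorem genF : GenF := by
  intro K _ _ m hm hK σ _ hσ hc g
  obtain ⟨c, hc⟩ := hc
  have hcK : CharP K 2 := Cfsg.Agent.ChevalleyStructure.TwF4.Twisted.charP_two hK
  obtain ⟨φ, hφ⟩ := exists_rln hK
  have hFc : Nat.card K = 2 ^ (2 * m + 1) := by rw [Nat.card_eq_fintype_card, hK]
  obtain ⟨γ, hγ⟩ := IsCyclic.exists_generator (α := Kˣ)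
  have hγ' : orderOf γ = Nat.card K - 1 := by
    rw [orderOf_eq_card_of_forall_mem_zpowers hγ, Nat.card_units]
  have h1 := D_eq_top (S := Cfsg.Agent.KFacts.TwF4.Inst.full hK hφ) hFc hσ hγ' hc (ψ := S2128.fld σ (2 ^ m))
    (fun a t => S2128.fld_ro σ hφ a t) (fun a p u => S2128.fld_re σ hφ a p u)
  have h2 : g ∈ D (Cfsg.Agent.KFacts.TwF4.Inst.full hK hφ) (S2128.fld σ (2 ^ m)) γ c := by
    rw [h1]; exact mem_top g
  exact ⟨_, h2⟩

end Cfsg.Agent.H176.Pi.TwF4Gen
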